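import Groth.Agent.FVLib.Global
import Groth.Agent.CommAlgDim.QuasiRegular

/-! A weakly regular sequence is quasi-regular (no Noetherian hypothesis). -/

set_option autoImplicit false
set_option linter.style.haveILetI false
universe u

open MvPolynomial CommAlgDim

namespace Groth.Agent.QReg16Lib

variable {B : Type u} [CommRing B]

/-- Each term is regular modulo the span of the later ones. -/
def NR' : ∀ {r : ℕ}, (Fin r → B) → Prop
  | 0, _ => True
  | r + 1, x => (∀ a, x 0 * a ∈ Ideal.span (Set.range fun i : Fin r => x i.succ) →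
      a ∈ Ideal.span (Set.range fun i : Fin r => x i.succ)) ∧ NR' (fun i : Fin r => x i.succ)

/-- Coefficientwise quasi-regularity. -/
def QR {r : ℕ} (x : Fin r → B) : Prop :=
  ∀ (n : ℕ) (F : MvPolynomial (Fin r) B), F.IsHomogeneous n →
    eval x F ∈ Ideal.span (Set.range x) ^ (n + 1) → ∀ s, F.coeff s ∈ Ideal.span (Set.range x)

theorem reduce_eval {r : ℕ} (x : Fin r → B)
    (h : ∀ (n : ℕ) (F : MvPolynomial (Fin r) B), F.IsHomogeneous n → eval x F = 0 →
      ∀ s, F.coeff s ∈ Ideal.span (Set.range x)) : QR x := by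
  classical
  intro n F hF he s
  rw [pow_succ] at he
  have key : ∀ y ∈ Ideal.span (Set.range x) ^ n * Ideal.span (Set.range x),
      ∃ G : MvPolynomial (Fin r) B, G.IsHomogeneous n ∧ (∀ t, G.coeff t ∈ Ideal.span (Set.range x)) ∧ eval x G = y := by
    intro y hy
    induction hy using Submodule.mul_induction_on' with
    | mem_mul_mem b hb c hc =>
      obtain ⟨G, hG, rfl⟩ := exists_isHomogeneous_eval_eq x n hb
      refine ⟨C c * G, hG.C_mul _, fun t => ?_, by rw [map_mul, eval_C, mul_comm]⟩
      rw [coeff_C_mul]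
      exact Ideal.mul_mem_right _ _ hc
    | add a _ b _ ha hb =>
      obtain ⟨G, hG, hGc, rfl⟩ := ha
      obtain ⟨H, hH, hHc, rfl⟩ := hb
      exact ⟨G + H, hG.add hH, fun t => by rw [coeff_add]; exact add_mem (hGc t) (hHc t), map_add _ _ _⟩
  obtain ⟨G, hG, hGc, hGe⟩ := key _ he
  have h1 := h n (F - G) (hF.sub hG) (by rw [map_sub, hGe, sub_self]) s
  rw [coeff_sub] at h1
  simpa using add_mem h1 (hGc s)

theorem qr_of_nr' : ∀ {r : ℕ} (x : Fin r → B), NR' x → QR x
  | 0, x, _ => reduce_eval x fun n F hF he s => by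
    have hs : s = 0 := Subsingleton.elim _ _
    have hFC : F = C (F.coeff 0) := by
      ext t
      rw [Subsingleton.elim t 0, coeff_C, if_pos rfl]
    rw [hFC, eval_C] at he
    rw [hs, he]
    exact zero_mem _
  | r + 1, x, hx => by
    obtain ⟨hreg, hx'⟩ := hx
    have ih : QR (fun i : Fin r => x i.succ) := qr_of_nr' _ hx'
    set x' : Fin r → B := fun i => x i.succ with hx'def
    set I' := Ideal.span (Set.range x')
    set I := Ideal.span (Set.range x) with hI
    have hle : I' ≤ I := Ideal.span_mono (by rintro _ ⟨i, rfl⟩; exact ⟨i.succ, rfl⟩)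
    have hxm : ∀ i, x i ∈ I := fun i => Ideal.subset_span ⟨i, rfl⟩
    have hxm' : ∀ i, x' i ∈ I' := fun i => Ideal.subset_span ⟨i, rfl⟩
    -- regularity modulo powers
    have hpow : ∀ m a, x 0 * a ∈ I' ^ m → a ∈ I' ^ m := by
      intro m
      induction m with
      | zero => intro a _; simp
      | succ m ihm =>
        intro a ha
        obtain ⟨G, hG, rfl⟩ := exists_isHomogeneous_eval_eq x' m (ihm a (Ideal.pow_le_pow_right m.le_succ ha))
        refine eval_mem_pow_succ _ _ hxm' hG fun s => hreg _ ?_
        have := ih m (C (x 0) * G) (hG.C_mul _) (by rw [map_mul, eval_C]; exact ha) s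
        rwa [coeff_C_mul] at this
    refine reduce_eval x fun n => ?_
    induction n with
    | zero =>
      intro F hF he s
      have hs : ∀ t, t ≠ 0 → F.coeff t = 0 := fun t ht => hF.coeff_eq_zero (by simpa [Finsupp.degree_eq_zero_iff] using ht)
      have hFC : F = C (F.coeff 0) := by
        ext t
        rw [coeff_C]
        split_ifs with h
        · rw [h]
        · exact hs t (Ne.symm h)
      rw [hFC, eval_C] at he
      rcases eq_or_ne s 0 with rfl | h
      · rw [he]; exact zero_mem _
      · rw [hs s h]; exact zero_mem _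
    | succ n ihn =>
      intro F hF he
      obtain ⟨F0, F1, hF0, hF1, rfl⟩ := exists_split hF
      rw [map_add, map_mul, eval_X, eval_rename, show x ∘ Fin.succ = x' from rfl] at he
      have h1 : eval x F1 ∈ I' ^ (n + 1) := hpow _ _ (by
        rw [eq_neg_of_add_eq_zero_right he]
        exact neg_mem (eval_mem_pow _ _ hxm' hF0))
      -- the coefficients of `F1`
      have hc1 : ∀ t, F1.coeff t ∈ I := by
        -- upgrade the induction hypothesis from value zero to value in the next power
        intro t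
        have key : ∀ y ∈ I ^ n * I, ∃ G : MvPolynomial (Fin (r + 1)) B,
            G.IsHomogeneous n ∧ (∀ t, G.coeff t ∈ I) ∧ eval x G = y := by
          intro y hy
          induction hy using Submodule.mul_induction_on' with
          | mem_mul_mem b hb c hc =>
            obtain ⟨G, hG, rfl⟩ := exists_isHomogeneous_eval_eq x n hb
            refine ⟨C c * G, hG.C_mul _, fun t => ?_, by rw [map_mul, eval_C, mul_comm]⟩
            rw [coeff_C_mul]
            exact Ideal.mul_mem_right _ _ hc
          | add a _ b _ ha hb =>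
            obtain ⟨G, hG, hGc, rfl⟩ := ha
            obtain ⟨H, hH, hHc, rfl⟩ := hb
            exact ⟨G + H, hG.add hH, fun t => by rw [coeff_add]; exact add_mem (hGc t) (hHc t), map_add _ _ _⟩
        obtain ⟨G, hG, hGc, hGe⟩ := key _ (by rw [← pow_succ]; exact Ideal.pow_right_mono hle _ h1)
        have h2 := ihn (F1 - G) (hF1.sub hG) (by rw [map_sub, hGe, sub_self]) t
        rw [coeff_sub] at h2
        simpa using add_mem h2 (hGc t)
      obtain ⟨H, hH, hHe⟩ := exists_isHomogeneous_eval_eq x' (n + 1) h1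
      have h0 := ih (n + 1) (F0 + C (x 0) * H) (hF0.add (hH.C_mul _))
        (by rw [map_add, map_mul, eval_C, hHe, he]; exact zero_mem _)
      have hc0 : ∀ t, F0.coeff t ∈ I := fun t => by
        have h3 := h0 t
        rw [coeff_add, coeff_C_mul] at h3
        simpa using sub_mem (hle h3) (Ideal.mul_mem_right (H.coeff t) _ (hxm 0))
      have hm0 : rename Fin.succ F0 ∈ I.map (C : B →+* MvPolynomial (Fin (r + 1)) B) := by
        have := Ideal.mem_map_of_mem (rename (R := B) (Fin.succ (n := r))).toRingHom
          (MvPolynomial.mem_map_C_iff.2 hc0)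
        rwa [Ideal.map_map, show (rename (R := B) (Fin.succ (n := r))).toRingHom.comp C = C from
          RingHom.ext fun r => rename_C _ r] at this
      intro s
      exact MvPolynomial.mem_map_C_iff.1
        (add_mem hm0 (Ideal.mul_mem_left _ _ (MvPolynomial.mem_map_C_iff.2 hc1))) s

theorem nr'_of_nr : ∀ {r : ℕ} (y : Fin r → B), FVLib.NR y → NR' (fun i => y (Fin.rev i))
  | 0, _, _ => trivial
  | r + 1, y, h => by
    have hset : Set.range (fun i : Fin r => y (Fin.rev i.succ)) = y '' {j | j < Fin.last r} := by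
      ext z
      simp only [Fin.rev_succ, Set.mem_range, Set.mem_image, Set.mem_setOf_eq]
      constructor
      · rintro ⟨i, rfl⟩
        exact ⟨(Fin.rev i).castSucc, Fin.castSucc_lt_last _, rfl⟩
      · rintro ⟨j, hj, rfl⟩
        exact ⟨Fin.rev (j.castPred hj.ne), by rw [Fin.rev_rev, Fin.castSucc_castPred]⟩
    refine ⟨fun a ha => ?_, ?_⟩
    · simp only at ha ⊢
      rw [hset, Fin.rev_zero] at ha
      rw [hset]
      exact h _ a ha
    · have h' : FVLib.NR (fun i : Fin r => y i.castSucc) := fun i a ha => by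
        have e : (fun i : Fin r => y i.castSucc) '' {j | j < i} = y '' {j | j < i.castSucc} := by
          ext z
          simp only [Set.mem_image, Set.mem_setOf_eq]
          constructor
          · rintro ⟨j, hj, rfl⟩
            exact ⟨j.castSucc, Fin.castSucc_lt_castSucc_iff.2 hj, rfl⟩
          · rintro ⟨j, hj, rfl⟩
            refine ⟨j.castPred (hj.trans (Fin.castSucc_lt_last i)).ne, ?_, by rw [Fin.castSucc_castPred]⟩
            rw [← Fin.castSucc_lt_castSucc_iff, Fin.castSucc_castPred]
            exact hj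
        rw [e] at ha ⊢
        exact h _ a ha
      simpa [Fin.rev_succ] using nr'_of_nr _ h'

/-- The basic inclusion `J ∩ Rⁿ ⊆ J Rⁿ + Rⁿ⁺¹` for a sequence weakly regular modulo `J`. -/
theorem inf_pow_le {A : Type u} [CommRing A] (J : Ideal A) {r : ℕ} (f : Fin r → A)
    (hf : RingTheory.Sequence.IsWeaklyRegular (A ⧸ J) (List.ofFn f)) (n : ℕ) :
    J ⊓ Ideal.span (Set.range f) ^ n ≤
      J * Ideal.span (Set.range f) ^ n ⊔ Ideal.span (Set.range f) ^ (n + 1) := by
  set π := Ideal.Quotient.mk J
  rw [← RingTheory.Sequence.isWeaklyRegular_map_algebraMap_iff (A ⧸ J) (A ⧸ J), List.map_ofFn] at hf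
  have hQR := qr_of_nr' _ (nr'_of_nr _ ((FVLib.nr_iff _).2 hf))
  set x : Fin r → A := fun i => f (Fin.rev i)
  have hR : Ideal.span (Set.range f) = Ideal.span (Set.range x) :=
    congrArg Ideal.span (Fin.rev_bijective.2.range_comp f).symm
  rw [hR]
  rintro a ⟨haJ, han⟩
  obtain ⟨F, hF, rfl⟩ := exists_isHomogeneous_eval_eq x n han
  have hev : eval (fun i => π (x i)) (F.map π) = 0 := by
    rw [eval_map, ← show π (eval x F) = eval₂ π (fun i => π (x i)) F from eval₂_comp π x F]
    exact Ideal.Quotient.eq_zero_iff_mem.2 haJ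
  have hco : ∀ s, F.coeff s ∈ J ⊔ Ideal.span (Set.range x) := fun s => by
    have h1 := hQR n (F.map π) (hF.map π) (by
      change eval (fun i => π (x i)) (F.map π) ∈ _
      rw [hev]; exact zero_mem _) s
    rw [coeff_map] at h1
    have h2 : π (F.coeff s) ∈ (Ideal.span (Set.range x)).map π := by
      rw [Ideal.map_span, ← Set.range_comp]
      exact h1
    rw [← Ideal.mem_comap, Ideal.comap_map_of_surjective _ Ideal.Quotient.mk_surjective,
      ← RingHom.ker_eq_comap_bot, Ideal.mk_ker, sup_comm] at h2
    exact h2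
  have : eval x F ∈ (J ⊔ Ideal.span (Set.range x)) * Ideal.span (Set.range x) ^ n := by
    rw [F.as_sum, map_sum]
    refine sum_mem fun s hs => ?_
    rw [eval_monomial, hF.degree_eq_sum_deg_support hs]
    refine Ideal.mul_mem_mul (hco s) ?_
    rw [← Finset.prod_pow_eq_pow_sum]
    exact Ideal.prod_mem_prod fun i _ => Ideal.pow_mem_pow (Ideal.subset_span (Set.mem_range_self i)) _
  rwa [Ideal.sup_mul, ← pow_succ'] at this

theorem inf_pow_le_of_le {A : Type u} [CommRing A] (J : Ideal A) {r : ℕ} (f : Fin r → A)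
    (hf : RingTheory.Sequence.IsWeaklyRegular (A ⧸ J) (List.ofFn f)) {n N : ℕ} (hnN : n ≤ N) :
    J ⊓ Ideal.span (Set.range f) ^ n ≤
      J * Ideal.span (Set.range f) ^ n ⊔ J ⊓ Ideal.span (Set.range f) ^ N := by
  induction N, hnN using Nat.le_induction with
  | base => exact le_sup_right
  | succ N hN ih =>
    refine ih.trans (sup_le le_sup_left ?_)
    intro a ha
    obtain ⟨b, hb, c, hc, rfl⟩ := Submodule.mem_sup.1 (inf_pow_le J f hf N ha)
    refine Submodule.add_mem_sup (Ideal.mul_mono le_rfl (Ideal.pow_le_pow_right hN) hb) ⟨?_, hc⟩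
    have h1 : b + c ∈ J := ha.1
    have h2 : b ∈ J := Ideal.mul_le_left (J := Ideal.span (Set.range f) ^ N) hb
    exact (Submodule.add_mem_iff_right J h2).1 h1

end Groth.Agent.QReg16Lib
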