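import Groth.Agent.CommAlgDim.QuasiRegular
import Groth.Agent.QReg16Lib.Basic
import Groth.Prelude.Def_CAlgX
import Mathlib

/-!
# Appending an `H_1`-regular sequence to a quasi-regular one
-/

set_option autoImplicit false
set_option linter.style.haveILetI false

noncomputable section

universe u

open MvPolynomial

namespace QReg16Append

variable {A : Type u} [CommRing A] {n m : ℕ} (f : Fin n → A) (g : Fin m → A)

/-- The ideal of both families. -/
abbrev JJ : Ideal A := Ideal.span (Set.range f) ⊔ Ideal.span (Set.range g)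

theorem homogeneousComponent_mul_X (d : ℕ) (u : MvPolynomial (Fin m) A) (i : Fin m) :
    homogeneousComponent (d + 1) (u * X i) = homogeneousComponent d u * X i := by
  ext e
  rw [coeff_homogeneousComponent, coeff_mul_X', coeff_mul_X', coeff_homogeneousComponent]
  by_cases hi : i ∈ e.support
  · obtain ⟨e', rfl⟩ : ∃ e', e = e' + Finsupp.single i 1 :=
      ⟨e - Finsupp.single i 1, by
        rw [tsub_add_cancel_of_le]
        simpa [Finsupp.single_le_iff, Nat.one_le_iff_ne_zero] using hi⟩
    simp [map_add, add_left_inj]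
  · simp [hi]

/-- A homogeneous polynomial of positive degree as a combination of the variables. -/
theorem exists_eq_sum_mul_X {d : ℕ} {P : MvPolynomial (Fin m) A} (hP : P.IsHomogeneous (d + 1)) :
    ∃ p : Fin m → MvPolynomial (Fin m) A, (∀ i, (p i).IsHomogeneous d) ∧ ∑ i, p i * X i = P := by
  have hPX : P ∈ Ideal.span (Set.range (X : Fin m → MvPolynomial (Fin m) A)) := by
    rw [← Set.image_univ, mem_ideal_span_X_image]
    intro e he
    by_contra hc
    push Not at hc
    have he0 : e = 0 := by ext i; exact hc i (Set.mem_univ i)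
    have := hP.degree_eq_sum_deg_support he
    simp [he0] at this
  obtain ⟨q, hq⟩ := Ideal.mem_span_range_iff_exists_fun.1 hPX
  refine ⟨fun i => homogeneousComponent d (q i), fun i => homogeneousComponent_isHomogeneous _ _, ?_⟩
  simp only [← homogeneousComponent_mul_X, ← map_sum, hq]
  exact (homogeneousComponent_of_mem hP).trans (if_pos rfl)

/-- The linear Koszul relations. -/
abbrev gen (p : Fin m × Fin m) : MvPolynomial (Fin m) A := C (g p.2) * X p.1 - C (g p.1) * X p.2

/-- Modulo the first ideal, a homogeneous polynomial killed by the second family is a combination of the linear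
Koszul relations. -/
theorem exists_decomp (I : Ideal A) (hg : CAlgX.IsH1Regular (fun j => Ideal.Quotient.mk I (g j))) :
    ∀ (d : ℕ) (h : MvPolynomial (Fin m) A), h.IsHomogeneous d → eval g h ∈ I →
      ∃ M : Fin m × Fin m → MvPolynomial (Fin m) A, ∀ e, (h - ∑ p, M p * gen g p).coeff e ∈ I := by
  classical
  intro d
  induction d with
  | zero =>
    intro h hh he
    refine ⟨0, fun e => ?_⟩
    rw [totalDegree_eq_zero_iff_eq_C.1 (Nat.le_zero.1 hh.totalDegree_le)] at he ⊢
    rw [eval_C] at he
    simp only [Pi.zero_apply, zero_mul, Finset.sum_const_zero, sub_zero, coeff_C]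
    split_ifs
    · exact he
    · exact zero_mem _
  | succ d ih =>
    intro h hh he
    obtain ⟨p, hp, rfl⟩ := exists_eq_sum_mul_X hh
    obtain ⟨M, hM⟩ := ih (∑ i, C (g i) * p i) (IsHomogeneous.sum _ _ _ fun i _ => (hp i).C_mul _)
      (by simpa [map_sum, mul_comm] using he)
    let G : Fin m → MvPolynomial (Fin m) A := fun k => ∑ i, M (i, k) * X i - ∑ j, M (k, j) * X j
    have hG1 : ∑ k, C (g k) * G k = ∑ q, M q * gen g q := by
      simp only [G, gen, mul_sub, Finset.sum_sub_distrib, Finset.mul_sum, Fintype.sum_prod_type]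
      refine congrArg₂ (fun a b => a - b) ?_ ?_
      · rw [Finset.sum_comm]
        exact Finset.sum_congr rfl fun x _ => Finset.sum_congr rfl fun y _ => mul_left_comm _ _ _
      · exact Finset.sum_congr rfl fun x _ => Finset.sum_congr rfl fun y _ => mul_left_comm _ _ _
    have hG2 : ∑ k, G k * X k = 0 := by
      simp only [G, sub_mul, Finset.sum_sub_distrib, Finset.sum_mul]
      rw [sub_eq_zero, Finset.sum_comm]
      exact Finset.sum_congr rfl fun x _ => Finset.sum_congr rfl fun y _ => mul_right_comm _ _ _
    have hzero : ∀ e, ∑ k, g k * (p k - G k).coeff e ∈ I := fun e => by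
      have := hM e
      rw [← hG1, ← Finset.sum_sub_distrib] at this
      simp only [← mul_sub, coeff_sum, coeff_C_mul] at this
      exact this
    -- the relation, one coefficient at a time
    have hrel : ∀ e : Fin m →₀ ℕ, ∃ c : Fin m × Fin m → A, ∀ k,
        (p k - G k).coeff e - ∑ q, c q * ((Pi.single q.1 (g q.2) : Fin m → A) k - (Pi.single q.2 (g q.1) : Fin m → A) k) ∈ I := by
      intro e
      have h1 := hg (fun k => Ideal.Quotient.mk I ((p k - G k).coeff e)) (by
        rw [← Ideal.Quotient.eq_zero_iff_mem.2 (hzero e), map_sum]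
        exact Finset.sum_congr rfl fun k _ => by rw [map_mul, mul_comm])
      have h2 := Submodule.span_mono (t := Set.range fun q : Fin m × Fin m =>
        (Pi.single q.1 (Ideal.Quotient.mk I (g q.2)) - Pi.single q.2 (Ideal.Quotient.mk I (g q.1)) : Fin m → A ⧸ I))
        (by rintro _ ⟨i, j, rfl⟩; exact ⟨(i, j), rfl⟩) h1
      obtain ⟨c, hc⟩ := (Submodule.mem_span_range_iff_exists_fun _).1 h2
      choose c' hc' using fun q => Ideal.Quotient.mk_surjective (c q)
      refine ⟨c', fun k => ?_⟩
      have := congrFun hc k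
      rw [Finset.sum_apply] at this
      rw [← Ideal.Quotient.eq_zero_iff_mem, map_sub, map_sum, sub_eq_zero, ← this]
      refine Finset.sum_congr rfl fun q _ => ?_
      simp [hc', Pi.single_apply, apply_ite (Ideal.Quotient.mk I)]
    choose c hc using hrel
    let S := Finset.univ.biUnion fun k => (p k - G k).support
    refine ⟨fun q => ∑ e ∈ S, monomial e (c e q), fun e₀ => ?_⟩
    have key : ∑ k, p k * X k - ∑ q, (∑ e ∈ S, monomial e (c e q)) * gen g q =
        ∑ k, (∑ e ∈ S, monomial e ((p k - G k).coeff e -
          ∑ q, c e q * ((Pi.single q.1 (g q.2) : Fin m → A) k - (Pi.single q.2 (g q.1) : Fin m → A) k))) * X k := by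
      have hP' : ∑ k, p k * X k = ∑ k, (∑ e ∈ S, monomial e ((p k - G k).coeff e)) * X k := by
        refine Eq.trans (b := ∑ k, (p k - G k) * X k) (by simp only [sub_mul, Finset.sum_sub_distrib, hG2, sub_zero]) ?_
        refine Finset.sum_congr rfl fun k _ => ?_
        congr 1
        conv_lhs => rw [(p k - G k).as_sum]
        refine Finset.sum_subset (Finset.subset_biUnion_of_mem (fun k => (p k - G k).support) (Finset.mem_univ k))
          fun e _ he => ?_
        rw [notMem_support_iff.1 he, map_zero]
      have hgen : ∀ q, gen g q = ∑ k, C ((Pi.single q.1 (g q.2) : Fin m → A) k - (Pi.single q.2 (g q.1) : Fin m → A) k) * X k := by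
        intro q
        simp [gen, sub_mul, Finset.sum_sub_distrib, Pi.single_apply, apply_ite (C : A → MvPolynomial (Fin m) A),
          ite_mul]
      have hQ : ∑ q, (∑ e ∈ S, monomial e (c e q)) * gen g q = ∑ k, (∑ e ∈ S, monomial e
          (∑ q, c e q * ((Pi.single q.1 (g q.2) : Fin m → A) k - (Pi.single q.2 (g q.1) : Fin m → A) k))) * X k := by
        simp only [hgen, Finset.mul_sum]
        rw [Finset.sum_comm]
        refine Finset.sum_congr rfl fun k _ => ?_
        simp only [← mul_assoc, ← Finset.sum_mul, map_sum]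
        congr 1
        simp only [Finset.sum_mul]
        rw [Finset.sum_comm]
        refine Finset.sum_congr rfl fun e _ => Finset.sum_congr rfl fun q _ => ?_
        rw [mul_comm, C_mul_monomial, mul_comm]
      rw [hP', hQ, ← Finset.sum_sub_distrib]
      refine Finset.sum_congr rfl fun k _ => ?_
      rw [← sub_mul, ← Finset.sum_sub_distrib]
      simp only [map_sub]
    rw [key]
    refine mem_map_C_iff.1 (Ideal.sum_mem _ fun k _ => Ideal.mul_mem_right _ _ ?_) e₀
    refine Ideal.sum_mem _ fun e _ => ?_
    rw [show monomial e ((p k - G k).coeff e - _) = C _ * monomial e (1 : A) from (by rw [C_mul_monomial, mul_one])]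
    exact Ideal.mul_mem_right _ _ (Ideal.mem_map_of_mem _ (hc e k))

/-- A homogeneous polynomial killed modulo the first ideal has coefficients in the sum of the ideals, and its value
is that of a homogeneous polynomial with coefficients in the first ideal. -/
theorem exists_repl (hg : CAlgX.IsH1Regular (fun j => Ideal.Quotient.mk (Ideal.span (Set.range f)) (g j)))
    {d : ℕ} {h : MvPolynomial (Fin m) A} (hh : h.IsHomogeneous d) (he : eval g h ∈ Ideal.span (Set.range f)) :
    (∀ e, h.coeff e ∈ JJ f g) ∧ ∃ D : MvPolynomial (Fin m) A, D.IsHomogeneous d ∧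
      (∀ e, D.coeff e ∈ Ideal.span (Set.range f)) ∧ eval g D = eval g h := by
  classical
  obtain ⟨M, hM⟩ := exists_decomp g _ hg d h hh he
  let L := ∑ p, M p * gen g p
  have hL : L ∈ (JJ f g).map (C : A →+* MvPolynomial (Fin m) A) := Ideal.sum_mem _ fun p _ => Ideal.mul_mem_left _ _
    (sub_mem (Ideal.mul_mem_right _ _ (Ideal.mem_map_of_mem _ (Ideal.mem_sup_right (Ideal.subset_span ⟨_, rfl⟩))))
      (Ideal.mul_mem_right _ _ (Ideal.mem_map_of_mem _ (Ideal.mem_sup_right (Ideal.subset_span ⟨_, rfl⟩)))))
  refine ⟨fun e => ?_, h - homogeneousComponent d L, hh.sub (homogeneousComponent_isHomogeneous _ _), fun e => ?_, ?_⟩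
  · have := add_mem (Ideal.mem_sup_left (hM e) : _ ∈ JJ f g) (mem_map_C_iff.1 hL e)
    rwa [coeff_sub, sub_add_cancel] at this
  · rw [coeff_sub, coeff_homogeneousComponent]
    split_ifs with hd
    · rw [← coeff_sub]; exact hM e
    · rw [sub_zero, hh.coeff_eq_zero hd]; exact zero_mem _
  · rw [map_sub, sub_eq_self]
    cases d with
    | zero =>
      rw [homogeneousComponent_zero, eval_C]
      simp [L, ← constantCoeff_eq, map_sum, map_mul, map_sub, gen]
    | succ d =>
      simp only [L, gen, map_sum, mul_sub, ← mul_assoc, map_sub, homogeneousComponent_mul_X]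
      refine Finset.sum_eq_zero fun p _ => ?_
      rw [show M p * C (g p.2) = C (g p.2) * M p from mul_comm _ _,
        show M p * C (g p.1) = C (g p.1) * M p from mul_comm _ _, homogeneousComponent_C_mul,
        homogeneousComponent_C_mul]
      simp only [map_mul, eval_C, eval_X]
      ring

/-- Evaluation of a two-level polynomial. -/
abbrev ev : MvPolynomial (Fin n) (MvPolynomial (Fin m) A) →+* A := (eval f).comp (MvPolynomial.map (eval g))

/-- Bihomogeneity of total degree `k + d` with first degree at least `k`. -/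
def Cls (k d : ℕ) (P : MvPolynomial (Fin n) (MvPolynomial (Fin m) A)) : Prop :=
  ∀ a, (a.degree < k ∨ k + d < a.degree → P.coeff a = 0) ∧ (P.coeff a).IsHomogeneous (k + d - a.degree)

theorem Cls.add {k d : ℕ} {P Q : MvPolynomial (Fin n) (MvPolynomial (Fin m) A)} (hP : Cls k d P) (hQ : Cls k d Q) :
    Cls k d (P + Q) := fun a => ⟨fun h => by rw [coeff_add, (hP a).1 h, (hQ a).1 h, add_zero],
  by rw [coeff_add]; exact (hP a).2.add (hQ a).2⟩

theorem cls_zero (k d : ℕ) : Cls k d (0 : MvPolynomial (Fin n) (MvPolynomial (Fin m) A)) := fun a =>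
  ⟨fun _ => coeff_zero a, by rw [coeff_zero]; exact isHomogeneous_zero _ _ _⟩

theorem Cls.sum {ι : Type*} (s : Finset ι) {k d : ℕ} (P : ι → MvPolynomial (Fin n) (MvPolynomial (Fin m) A))
    (hP : ∀ i ∈ s, Cls k d (P i)) : Cls k d (∑ i ∈ s, P i) := by
  classical
  induction s using Finset.induction with
  | empty => simpa using cls_zero k d
  | insert a s ha ih =>
    rw [Finset.sum_insert ha]
    exact (hP a (Finset.mem_insert_self _ _)).add (ih fun i hi => hP i (Finset.mem_insert_of_mem hi))

theorem cls_monomial {k d : ℕ} (a : Fin n →₀ ℕ) (h : MvPolynomial (Fin m) A) (h1 : k ≤ a.degree)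
    (h2 : a.degree ≤ k + d) (hh : h.IsHomogeneous (k + d - a.degree)) :
    Cls k d (monomial a h) := fun b => by
  classical
  rw [coeff_monomial]
  split_ifs with hb
  · subst hb
    exact ⟨fun h => absurd h (by omega), hh⟩
  · exact ⟨fun _ => rfl, isHomogeneous_zero _ _ _⟩

theorem ev_monomial (a : Fin n →₀ ℕ) (h : MvPolynomial (Fin m) A) :
    ev f g (monomial a h) = eval g h * a.prod fun i e => f i ^ e := by
  rw [RingHom.comp_apply, map_monomial, eval_monomial]

theorem coeff_mem (hf : CAlgX.IsQuasiRegular f)
    (hg : CAlgX.IsH1Regular (fun j => Ideal.Quotient.mk (Ideal.span (Set.range f)) (g j))) :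
    ∀ (d k : ℕ) (P : MvPolynomial (Fin n) (MvPolynomial (Fin m) A)), Cls k d P → ev f g P = 0 →
      ∀ a e, (P.coeff a).coeff e ∈ JJ f g := by
  classical
  intro d
  induction d with
  | zero =>
    intro k P hP he a e
    by_cases ha : a.degree = k
    swap
    · rw [(hP a).1 (by omega), coeff_zero]; exact zero_mem _
    have hQ : (MvPolynomial.map (eval g) P).IsHomogeneous k := fun b hb => by
      rw [coeff_map] at hb
      by_contra hne
      refine hb ?_
      rw [(hP b).1 ?_, map_zero]
      have hwd : (Finsupp.weight (1 : Fin n → ℕ)) b = b.degree :=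
        (DFunLike.congr_fun Finsupp.degree_eq_weight_one b).symm
      rw [hwd] at hne
      omega
    have hc := hf k _ hQ (by rw [show eval f (MvPolynomial.map (eval g) P) = 0 from he]; exact zero_mem _) a
    rw [coeff_map] at hc
    have hhom := (hP a).2
    rw [ha, show k + 0 - k = 0 by omega] at hhom
    rw [totalDegree_eq_zero_iff_eq_C.1 (Nat.le_zero.1 hhom.totalDegree_le), coeff_C]
    rw [totalDegree_eq_zero_iff_eq_C.1 (Nat.le_zero.1 hhom.totalDegree_le), eval_C] at hc
    split_ifs
    · exact Ideal.mem_sup_left hc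
    · exact zero_mem _
  | succ d ih =>
    intro k P hP he
    let I := Ideal.span (Set.range f)
    let S := P.support.filter fun a => a.degree = k
    let R := P.support.filter fun a => ¬ a.degree = k
    let P₁ := ∑ a ∈ R, monomial a (P.coeff a)
    let Q := ∑ a ∈ S, monomial a (eval g (P.coeff a))
    have hsplit : ∑ a ∈ S, monomial a (P.coeff a) + P₁ = P := by
      rw [Finset.sum_filter_add_sum_filter_not, ← P.as_sum]
    have hRdeg : ∀ a ∈ R, k + 1 ≤ a.degree ∧ a.degree ≤ k + (d + 1) := fun a ha => by
      obtain ⟨h1, h2⟩ := Finset.mem_filter.1 ha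
      have h3 : ¬ (a.degree < k ∨ k + (d + 1) < a.degree) := fun h => mem_support_iff.1 h1 ((hP a).1 h)
      omega
    have hQ : Q.IsHomogeneous k := IsHomogeneous.sum _ _ _ fun a ha =>
      isHomogeneous_monomial _ (Finset.mem_filter.1 ha).2
    have heP : eval f Q + ev f g P₁ = 0 := by
      rw [← he]
      conv_rhs => rw [← hsplit, map_add, map_sum]
      rw [map_sum]
      simp only [ev_monomial, eval_monomial]
    have hP₁ : ev f g P₁ ∈ I ^ (k + 1) := by
      rw [map_sum]
      refine sum_mem fun a ha => ?_
      rw [ev_monomial]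
      refine Ideal.mul_mem_left _ _ (Ideal.pow_le_pow_right (hRdeg a ha).1 ?_)
      have := CommAlgDim.eval_mem_pow I f (fun i => Ideal.subset_span ⟨i, rfl⟩)
        (isHomogeneous_monomial (d := a) (1 : A) rfl)
      rwa [eval_monomial, one_mul] at this
    have hgI : ∀ a ∈ S, eval g (P.coeff a) ∈ I := fun a ha => by
      have := hf k Q hQ (by rw [eq_neg_of_add_eq_zero_left heP]; exact neg_mem hP₁) a
      rwa [coeff_sum, Finset.sum_eq_single a (fun b _ hne => by rw [coeff_monomial, if_neg hne])
        (fun h => absurd ha h), coeff_monomial, if_pos rfl] at this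
    -- values of the higher part with coefficients in the ideal
    let V : A → Prop := fun v => ∃ P' : MvPolynomial (Fin n) (MvPolynomial (Fin m) A),
      Cls (k + 1) d P' ∧ (∀ b e, (P'.coeff b).coeff e ∈ JJ f g) ∧ ev f g P' = v
    have hV0 : V 0 := ⟨0, cls_zero _ _, fun b e => by simp, map_zero _⟩
    have hVadd : ∀ u v, V u → V v → V (u + v) := by
      rintro u v ⟨P', a1, b1, rfl⟩ ⟨Q', a2, b2, rfl⟩
      exact ⟨P' + Q', a1.add a2, fun b e => by rw [coeff_add, coeff_add]; exact add_mem (b1 b e) (b2 b e), map_add _ _ _⟩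
    have hVsum : ∀ {ι : Type} (s : Finset ι) (u : ι → A), (∀ i ∈ s, V (u i)) → V (∑ i ∈ s, u i) := by
      intro ι s u hu
      induction s using Finset.induction with
      | empty => simpa using hV0
      | insert a s ha ih =>
        rw [Finset.sum_insert ha]
        exact hVadd _ _ (hu a (Finset.mem_insert_self _ _)) (ih fun i hi => hu i (Finset.mem_insert_of_mem hi))
    have hmain : ∀ a ∈ S, (∀ e, (P.coeff a).coeff e ∈ JJ f g) ∧ V (ev f g (monomial a (P.coeff a))) := by
      intro a ha
      have hadeg : a.degree = k := (Finset.mem_filter.1 ha).2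
      have hhom := (hP a).2
      rw [hadeg, show k + (d + 1) - k = d + 1 by omega] at hhom
      obtain ⟨hc, D, hD, hDI, hDe⟩ := exists_repl f g hg hhom (hgI a ha)
      refine ⟨hc, ?_⟩
      rw [ev_monomial, ← hDe, D.as_sum, map_sum, Finset.sum_mul]
      refine hVsum _ _ fun e he' => ?_
      obtain ⟨r, hr⟩ := (Ideal.mem_span_range_iff_exists_fun (R := A)).1 (hDI e)
      have hdeg : e.degree = d + 1 := by
        rw [Finsupp.degree_apply]; exact (hD.degree_eq_sum_deg_support he').symm
      obtain ⟨j, hj⟩ : ∃ j, e j ≠ 0 := by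
        by_contra hc'
        push Not at hc'
        rw [show e = 0 from Finsupp.ext hc', map_zero] at hdeg
        omega
      obtain ⟨e', rfl⟩ : ∃ e', e = e' + Finsupp.single j 1 :=
        ⟨e - Finsupp.single j 1, by
          rw [tsub_add_cancel_of_le]; simpa [Finsupp.single_le_iff, Nat.one_le_iff_ne_zero] using hj⟩
      have he'deg : e'.degree = d := by
        rw [map_add, Finsupp.degree_single] at hdeg; omega
      rw [← hr, eval_monomial, Finset.sum_mul, Finset.sum_mul]
      refine hVsum _ _ fun l _ => ⟨monomial (a + Finsupp.single l 1) (monomial e' (r l * g j)), ?_, fun b e'' => ?_, ?_⟩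
      · refine cls_monomial _ _ ?_ ?_ (isHomogeneous_monomial _ ?_) <;>
          simp only [map_add, Finsupp.degree_single, hadeg, he'deg] <;> omega
      · rw [coeff_monomial]
        split_ifs
        · rw [coeff_monomial]
          split_ifs
          · exact Ideal.mem_sup_right (Ideal.mul_mem_left _ _ (Ideal.subset_span ⟨j, rfl⟩))
          · exact zero_mem _
        · rw [coeff_zero]; exact zero_mem _
      · rw [ev_monomial, eval_monomial, Finsupp.prod_add_index' (by simp) (fun _ _ _ => pow_add _ _ _),
          Finsupp.prod_add_index' (by simp) (fun _ _ _ => pow_add _ _ _)]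
        simp only [Finsupp.prod_single_index, pow_zero, pow_one]
        ring
    obtain ⟨P₂, hc2, hJ2, he2⟩ := hVsum S (fun a => ev f g (monomial a (P.coeff a))) fun a ha => (hmain a ha).2
    have hc1 : Cls (k + 1) d P₁ := Cls.sum _ _ fun a ha => cls_monomial _ _ (hRdeg a ha).1
      (by have := (hRdeg a ha).2; omega) (by rw [show k + 1 + d - a.degree = k + (d + 1) - a.degree by omega]; exact (hP a).2)
    have key := ih (k + 1) (P₁ + P₂) (hc1.add hc2) (by
      rw [map_add, he2, ← map_sum, ← map_add, add_comm P₁, hsplit, he])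
    intro a e
    by_cases ha : a ∈ S
    · exact (hmain a ha).1 e
    · have h1 : P₁.coeff a = P.coeff a := by
        conv_rhs => rw [← hsplit, coeff_add, coeff_sum,
          Finset.sum_eq_zero (fun b hb => by rw [coeff_monomial, if_neg (show ¬ b = a from fun hh => ha (hh ▸ hb))]), zero_add]
      have := sub_mem (key a e) (hJ2 a e)
      rwa [coeff_add, coeff_add, h1, add_sub_cancel_right] at this

theorem isQuasiRegular_append (hf : CAlgX.IsQuasiRegular f)
    (hg : CAlgX.IsH1Regular (fun j => Ideal.Quotient.mk (Ideal.span (Set.range f)) (g j))) :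
    CAlgX.IsQuasiRegular (Fin.append f g) := by
  classical
  have hspan : Ideal.span (Set.range (Fin.append f g)) = JJ f g := by
    rw [JJ, ← Ideal.span_union]
    refine congrArg Ideal.span (Set.ext fun a => ⟨?_, ?_⟩)
    · rintro ⟨i, rfl⟩
      refine Fin.addCases (fun i => ?_) (fun i => ?_) i
      · exact Or.inl ⟨i, (Fin.append_left f g i).symm⟩
      · exact Or.inr ⟨i, (Fin.append_right f g i).symm⟩
    · rintro (⟨i, rfl⟩ | ⟨i, rfl⟩)
      · exact ⟨_, Fin.append_left f g i⟩
      · exact ⟨_, Fin.append_right f g i⟩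
  apply Groth.Agent.QReg16Lib.reduce_eval
  intro N P hP he s
  let dl : (Fin (n + m) →₀ ℕ) → (Fin n →₀ ℕ) := fun s => Finsupp.equivFunOnFinite.symm fun i => s (Fin.castAdd m i)
  let dr : (Fin (n + m) →₀ ℕ) → (Fin m →₀ ℕ) := fun s => Finsupp.equivFunOnFinite.symm fun j => s (Fin.natAdd n j)
  have hdeg : ∀ s, (dl s).degree + (dr s).degree = s.degree := fun s => by
    simp only [Finsupp.degree_eq_sum, Fin.sum_univ_add]
    rfl
  have hinj : ∀ s t, dl s = dl t → dr s = dr t → s = t := fun s t h1 h2 => Finsupp.ext fun i =>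
    Fin.addCases (fun i => DFunLike.congr_fun h1 i) (fun j => DFunLike.congr_fun h2 j) i
  let P₂ : MvPolynomial (Fin n) (MvPolynomial (Fin m) A) :=
    ∑ t ∈ P.support, monomial (dl t) (monomial (dr t) (P.coeff t))
  have hcls : Cls 0 N P₂ := Cls.sum _ _ fun t ht => by
    have ht' : t.degree = N := by rw [Finsupp.degree_apply]; exact (hP.degree_eq_sum_deg_support ht).symm
    have := hdeg t
    refine cls_monomial _ _ (Nat.zero_le _) (by omega) (isHomogeneous_monomial _ (by omega))
  have hev : ev f g P₂ = 0 := by
    rw [← he]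
    conv_rhs => rw [P.as_sum, map_sum]
    rw [map_sum]
    refine Finset.sum_congr rfl fun t _ => ?_
    rw [ev_monomial, eval_monomial, eval_monomial,
      Finsupp.prod_fintype _ _ (fun _ => pow_zero _), Finsupp.prod_fintype _ _ (fun _ => pow_zero _),
      Finsupp.prod_fintype _ _ (fun _ => pow_zero _), Fin.prod_univ_add]
    simp only [Fin.append_left, Fin.append_right, dl, dr, Finsupp.coe_equivFunOnFinite_symm]
    ring
  rw [hspan]
  by_cases hs : s ∈ P.support
  swap
  · rw [notMem_support_iff.1 hs]; exact zero_mem _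
  have h := coeff_mem f g hf hg N 0 P₂ hcls hev (dl s) (dr s)
  rwa [coeff_sum, coeff_sum, Finset.sum_eq_single s ?_ (fun h => absurd hs h), coeff_monomial, if_pos rfl,
    coeff_monomial, if_pos rfl] at h
  intro t _ hne
  rw [coeff_monomial]
  split_ifs with h1
  · rw [coeff_monomial, if_neg fun h2 => hne (hinj t s h1 h2)]
  · exact coeff_zero _

end QReg16Append
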