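import Groth.Agent.S6304
import Groth.Agent.PDLib.Fibre
import Groth.Agent.CommAlgDim.QuasiRegular
import Groth.Prelude.Def_CAlgX
import Mathlib

/-!
# Quasi-regular and `H_1`-regular sequences with flat quotient commute with base change
-/

set_option autoImplicit false
set_option linter.style.haveILetI false

noncomputable section

universe u

open TensorProduct

namespace QReg16BC

variable {A B : Type u} [CommRing A] [CommRing B] [Algebra A B] {r : ℕ} (f : Fin r → B)

local notation "J" => Ideal.span (Set.range f)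

/-- Monomial exponents of a given degree. -/
abbrev Exps (r n : ℕ) : Type := {d : Fin r →₀ ℕ // d.degree = n}

/-- The value of a monomial at the sequence. -/
abbrev mon (d : Fin r →₀ ℕ) : B := d.prod fun i m => f i ^ m

theorem mon_mem {n : ℕ} (d : Exps r n) : mon f d.1 ∈ J ^ n := by
  have := CommAlgDim.eval_mem_pow (Ideal.span (Set.range f)) f (fun i => Ideal.subset_span ⟨i, rfl⟩)
    (MvPolynomial.isHomogeneous_monomial (1 : B) d.2)
  rwa [MvPolynomial.eval_monomial, one_mul] at this

/-- Multiplication by one monomial. -/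
def phi1 (n : ℕ) (d : Exps r n) : (B ⧸ J) →ₗ[B] (B ⧸ J ^ (n + 1)) :=
  Submodule.mapQ (J : Submodule B B) (J ^ (n + 1) : Ideal B) (LinearMap.mulLeft B (mon f d.1)) fun b hb => by
    rw [Submodule.mem_comap, LinearMap.mulLeft_apply, pow_succ]
    exact Ideal.mul_mem_mul (mon_mem f d) hb

instance (n : ℕ) : Fintype (Exps r n) :=
  ((Finsupp.finite_of_degree_le n).subset fun d (hd : d.degree = n) => hd.le).fintype

/-- The map from the free module onto the graded piece. -/
def phi (n : ℕ) : (Exps r n → B ⧸ J) →ₗ[B] (B ⧸ J ^ (n + 1)) :=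
  ∑ d, (phi1 f n d).comp (LinearMap.proj d)

theorem phi_mk (n : ℕ) (b : Exps r n → B) :
    phi f n (fun d => Submodule.Quotient.mk (b d)) = Submodule.Quotient.mk (∑ d, mon f d.1 * b d) := by
  rw [phi, LinearMap.sum_apply, ← Submodule.mkQ_apply, map_sum]
  rfl

theorem eval_eq_sum {n : ℕ} {P : MvPolynomial (Fin r) B} (hP : P.IsHomogeneous n) :
    MvPolynomial.eval f P = ∑ d : Exps r n, mon f d.1 * P.coeff d.1 := by
  classical
  conv_lhs => rw [P.as_sum, map_sum]
  rw [Finset.sum_subset (s₂ := Finset.univ.map ⟨fun d : Exps r n => d.1, Subtype.val_injective⟩)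
    (fun e he => Finset.mem_map.2 ⟨⟨e, by rw [Finsupp.degree_apply]; exact (hP.degree_eq_sum_deg_support he).symm⟩,
      Finset.mem_univ _, rfl⟩)
    (fun e _ he => by rw [MvPolynomial.notMem_support_iff.1 he, map_zero, map_zero]), Finset.sum_map]
  exact Finset.sum_congr rfl fun d _ => by rw [MvPolynomial.eval_monomial, mul_comm]; rfl

theorem phi_injective (hf : CAlgX.IsQuasiRegular f) (n : ℕ) : Function.Injective (phi f n) := by
  classical
  refine (injective_iff_map_eq_zero _).2 fun v hv => ?_
  obtain ⟨b, rfl⟩ : ∃ b : Exps r n → B, (fun d => Submodule.Quotient.mk (b d)) = v :=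
    ⟨fun d => (Submodule.Quotient.mk_surjective _ (v d)).choose,
      funext fun d => (Submodule.Quotient.mk_surjective _ (v d)).choose_spec⟩
  rw [phi_mk, Submodule.Quotient.mk_eq_zero] at hv
  let P : MvPolynomial (Fin r) B := ∑ d : Exps r n, MvPolynomial.monomial d.1 (b d)
  have hP : P.IsHomogeneous n :=
    MvPolynomial.IsHomogeneous.sum _ _ _ fun d _ => MvPolynomial.isHomogeneous_monomial _ d.2
  have hc : ∀ d : Exps r n, P.coeff d.1 = b d := fun d => by
    rw [MvPolynomial.coeff_sum, Finset.sum_eq_single d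
      (fun e _ hne => by rw [MvPolynomial.coeff_monomial, if_neg fun h => hne (Subtype.ext h)])
      (fun h => absurd (Finset.mem_univ _) h), MvPolynomial.coeff_monomial, if_pos rfl]
  funext d
  refine (Submodule.Quotient.mk_eq_zero _).2 ?_
  rw [← hc]
  refine hf n P hP ?_ d.1
  rw [eval_eq_sum f hP]
  simpa only [hc] using hv

theorem phi_exact (n : ℕ) :
    Function.Exact (phi f n) (Submodule.factor (Ideal.pow_le_pow_right (Nat.le_succ n) : J ^ (n + 1) ≤ J ^ n)) := by
  classical
  intro y
  constructor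
  · intro hy
    obtain ⟨z, rfl⟩ := Submodule.Quotient.mk_surjective _ y
    obtain ⟨F, hF, rfl⟩ := CommAlgDim.exists_isHomogeneous_eval_eq f n ((Submodule.Quotient.mk_eq_zero _).1 hy)
    exact ⟨fun d => Submodule.Quotient.mk (F.coeff d.1), by rw [phi_mk, ← eval_eq_sum f hF]⟩
  · rintro ⟨v, rfl⟩
    obtain ⟨b, rfl⟩ : ∃ b : Exps r n → B, (fun d => Submodule.Quotient.mk (b d)) = v :=
      ⟨fun d => (Submodule.Quotient.mk_surjective _ (v d)).choose,
        funext fun d => (Submodule.Quotient.mk_surjective _ (v d)).choose_spec⟩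
    rw [phi_mk]
    exact (Submodule.Quotient.mk_eq_zero _).2 (sum_mem fun d _ => Ideal.mul_mem_right _ _ (mon_mem f d))

/-- The projection between the truncations, over the base. -/
def facA (n : ℕ) : (B ⧸ J ^ (n + 1)) →ₗ[A] (B ⧸ J ^ n) :=
  (Submodule.factor (Ideal.pow_le_pow_right (Nat.le_succ n) : J ^ (n + 1) ≤ J ^ n)).restrictScalars A

/-- The graded piece, over the base. -/
def phiA (n : ℕ) : (Exps r n → B ⧸ J) →ₗ[A] (B ⧸ J ^ (n + 1)) := (phi f n).restrictScalars A

theorem phiA_apply (n : ℕ) (v : Exps r n → B ⧸ J) : phiA (A := A) f n v = phi f n v := rfl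

theorem phiA_injective (hf : CAlgX.IsQuasiRegular f) (n : ℕ) : Function.Injective (phiA (A := A) f n) := by
  intro v w h
  rw [phiA_apply, phiA_apply] at h
  exact phi_injective f hf n h

theorem facA_surjective (n : ℕ) : Function.Surjective (facA (A := A) f n) := by
  intro y
  obtain ⟨z, hz⟩ := Submodule.factor_surjective (Ideal.pow_le_pow_right (Nat.le_succ n) : J ^ (n + 1) ≤ J ^ n) y
  exact ⟨z, hz⟩

theorem phiA_exact (n : ℕ) : Function.Exact (phiA (A := A) f n) (facA (A := A) f n) := by
  intro y
  rw [facA, LinearMap.coe_restrictScalars, phiA, LinearMap.coe_restrictScalars]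
  exact phi_exact f n y

theorem flat_pow (hf : CAlgX.IsQuasiRegular f) (hflat : Module.Flat A (B ⧸ J)) :
    ∀ n : ℕ, Module.Flat A (B ⧸ J ^ n)
  | 0 => by
    haveI : Subsingleton (B ⧸ J ^ 0) := Ideal.Quotient.subsingleton_iff.2 (by simp)
    infer_instance
  | n + 1 => by
    haveI := flat_pow hf hflat n
    haveI := hflat
    haveI : Module.Flat A (Exps r n → B ⧸ J) :=
      Module.Flat.of_linearEquiv (DFinsupp.linearEquivFunOnFintype (R := A) (M := fun _ : Exps r n => B ⧸ J)).symm
    exact (Groth.Agent.S6304.result (phiA f n) (facA f n) (phiA_injective f hf n) (phiA_exact f n)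
      (facA_surjective f n)).1 inferInstance

variable (A' : Type u) [CommRing A'] [Algebra A A']

theorem span_range_tmul :
    Ideal.span (Set.range fun i => ((1 : A') ⊗ₜ[A] f i : A' ⊗[A] B)) =
      (J).map (Algebra.TensorProduct.includeRight : B →ₐ[A] A' ⊗[A] B) := by
  rw [Ideal.map_span, ← Set.range_comp]
  rfl

theorem mem_map_iff (I : Ideal B) (x : A' ⊗[A] B) :
    x ∈ I.map (Algebra.TensorProduct.includeRight : B →ₐ[A] A' ⊗[A] B) ↔
      ((Submodule.mkQ I).restrictScalars A).lTensor A' x = 0 := by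
  have h := Algebra.TensorProduct.lTensor_ker (A := A') (Ideal.Quotient.mkₐ A I) (Ideal.Quotient.mkₐ_surjective A I)
  rw [show RingHom.ker (Ideal.Quotient.mkₐ A I) = I from Ideal.ext fun b => Ideal.Quotient.eq_zero_iff_mem] at h
  rw [← h, RingHom.mem_ker]
  have key : ∀ z : A' ⊗[A] B, (Algebra.TensorProduct.map (AlgHom.id A A') (Ideal.Quotient.mkₐ A I)) z =
      ((Ideal.Quotient.mkₐ A I).toLinearMap).lTensor A' z := fun z => rfl
  rw [key]
  rfl

theorem isQuasiRegular_baseChange (hflat : Module.Flat A (B ⧸ J)) (hf : CAlgX.IsQuasiRegular f) :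
    CAlgX.IsQuasiRegular (fun i => ((1 : A') ⊗ₜ[A] f i : A' ⊗[A] B)) := by
  classical
  intro n P hP he d
  rw [span_range_tmul, ← Ideal.map_pow] at he
  rw [span_range_tmul]
  by_cases hd : d.degree = n
  swap
  · rw [hP.coeff_eq_zero hd]
    exact zero_mem _
  let ι : B →ₐ[A] A' ⊗[A] B := Algebra.TensorProduct.includeRight
  let q' : B →ₗ[A] B ⧸ J := (Submodule.mkQ J).restrictScalars A
  let sgl : Exps r n → (B →ₗ[A] Exps r n → B ⧸ J) := fun e =>
    (LinearMap.single A (fun _ => B ⧸ J) e).comp q'
  let z : A' ⊗[A] (Exps r n → B ⧸ J) := ∑ e, (sgl e).lTensor A' (P.coeff e.1)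
  let Φ : (Exps r n → B ⧸ J) →ₗ[A] (B ⧸ J ^ (n + 1)) := phiA f n
  let Q1 : B →ₗ[A] B ⧸ J ^ (n + 1) := (Submodule.mkQ (J ^ (n + 1))).restrictScalars A
  have hcomp : ∀ (e : Exps r n) (w : A' ⊗[A] B), Φ.lTensor A' ((sgl e).lTensor A' w) =
      Q1.lTensor A' (ι (mon f e.1) * w) := by
    intro e w
    induction w using TensorProduct.induction_on with
    | zero => simp
    | tmul a b =>
      simp only [ι, Algebra.TensorProduct.includeRight_apply, Algebra.TensorProduct.tmul_mul_tmul, one_mul,
        LinearMap.lTensor_tmul]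
      congr 1
      show phi f n (Pi.single e (Submodule.Quotient.mk b)) = Submodule.Quotient.mk (mon f e.1 * b)
      have h1 : (Pi.single e (Submodule.Quotient.mk b) : Exps r n → B ⧸ J) =
          fun d => Submodule.Quotient.mk ((Pi.single e b : Exps r n → B) d) := by
        funext d
        by_cases h : d = e
        · subst h; rw [Pi.single_eq_same, Pi.single_eq_same]
        · rw [Pi.single_eq_of_ne h, Pi.single_eq_of_ne h, Submodule.Quotient.mk_zero]
      rw [h1, phi_mk, Finset.sum_eq_single e (fun d _ h => by rw [Pi.single_eq_of_ne h, mul_zero])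
        (fun h => absurd (Finset.mem_univ _) h), Pi.single_eq_same]
    | add x y hx hy => rw [map_add, map_add, hx, hy, mul_add, map_add]
  have hmon : ∀ e : Fin r →₀ ℕ, mon (fun i => ((1 : A') ⊗ₜ[A] f i : A' ⊗[A] B)) e = ι (mon f e) := fun e => by
    rw [map_finsuppProd]
    simp only [mon, map_pow]
    rfl
  have hz : Φ.lTensor A' z = 0 := by
    simp only [z, map_sum, hcomp]
    rw [← map_sum]
    simp only [← hmon]
    rw [← eval_eq_sum (fun i => ((1 : A') ⊗ₜ[A] f i : A' ⊗[A] B)) hP]
    exact (mem_map_iff A' _ _).1 he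
  haveI := flat_pow f hf hflat n
  have hinj : Function.Injective (Φ.lTensor A') := PDLib.lTensor_injective_of_flat A' Φ
    (facA f n) (phiA_injective f hf n) (phiA_exact f n) (facA_surjective f n)
  have hz0 : z = 0 := hinj (by rw [hz, map_zero])
  refine (mem_map_iff A' _ _).2 ?_
  have h2 := congrArg ((LinearMap.proj (R := A) (φ := fun _ : Exps r n => B ⧸ J) ⟨d, hd⟩).lTensor A') hz0
  rw [map_zero, map_sum, Finset.sum_eq_single ⟨d, hd⟩ ?_ (fun h => absurd (Finset.mem_univ _) h)] at h2
  · rw [← LinearMap.comp_apply, ← LinearMap.lTensor_comp] at h2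
    rw [show (LinearMap.proj (R := A) (φ := fun _ : Exps r n => B ⧸ J) ⟨d, hd⟩).comp (sgl ⟨d, hd⟩) = q' from
      LinearMap.ext fun b => Pi.single_eq_same (M := fun _ => B ⧸ J) (⟨d, hd⟩ : Exps r n) _] at h2
    exact h2
  · intro e _ hne
    rw [← LinearMap.comp_apply, ← LinearMap.lTensor_comp,
      show (LinearMap.proj (R := A) (φ := fun _ : Exps r n => B ⧸ J) ⟨d, hd⟩).comp (sgl e) = 0 from
        LinearMap.ext fun b => Pi.single_eq_of_ne (M := fun _ : Exps r n => B ⧸ J) hne.symm _,
      LinearMap.lTensor_zero, LinearMap.zero_apply]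

theorem isH1Regular_baseChange (hflat : Module.Flat A (B ⧸ J)) (hf : CAlgX.IsH1Regular f) :
    CAlgX.IsH1Regular (fun i => ((1 : A') ⊗ₜ[A] f i : A' ⊗[A] B)) := by
  classical
  intro a ha
  let ι : B →ₐ[A] A' ⊗[A] B := Algebra.TensorProduct.includeRight
  let T : (Fin r × Fin r → B) →ₗ[B] (Fin r → B) :=
    Fintype.linearCombination B fun p => Pi.single p.1 (f p.2) - Pi.single p.2 (f p.1)
  let L : (Fin r → B) →ₗ[B] B := Fintype.linearCombination B f
  let Lj : (Fin r → B) →ₗ[B] (J : Submodule B B) := L.codRestrict J fun v => by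
    rw [Fintype.linearCombination_apply]
    exact sum_mem fun i _ => Ideal.mul_mem_left _ _ (Ideal.subset_span ⟨i, rfl⟩)
  have hLj : Function.Surjective Lj := fun y => by
    obtain ⟨c, hc⟩ := (Ideal.mem_span_range_iff_exists_fun (R := B)).1 y.2
    exact ⟨c, Subtype.ext (by simpa [Lj, L, Fintype.linearCombination_apply] using hc)⟩
  have hTL : Function.Exact T Lj := by
    intro v
    constructor
    · intro hv
      have h1 : ∑ i, v i * f i = 0 := by simpa [Lj, L, Fintype.linearCombination_apply] using congrArg Subtype.val hv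
      have h2 := Submodule.span_mono (R := B)
        (t := Set.range fun p : Fin r × Fin r => (Pi.single p.1 (f p.2) - Pi.single p.2 (f p.1) : Fin r → B))
        ?_ (hf v h1)
      · exact (Submodule.mem_span_range_iff_exists_fun B).1 h2 |>.imp fun c hc => by
          rw [← hc, Fintype.linearCombination_apply]
      · rintro _ ⟨i, j, rfl⟩
        exact ⟨(i, j), rfl⟩
    · rintro ⟨c, rfl⟩
      refine Subtype.ext ?_
      show L (T c) = 0
      rw [show T c = ∑ p, c p • (Pi.single p.1 (f p.2) - Pi.single p.2 (f p.1) : Fin r → B) from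
        Fintype.linearCombination_apply _ _ _, map_sum]
      refine Finset.sum_eq_zero fun p _ => ?_
      rw [map_smul, map_sub]
      simp [L, Fintype.linearCombination_apply_single, mul_comm]
  haveI := hflat
  have hinj : Function.Injective ((((J : Submodule B B).subtype).restrictScalars A).lTensor A') :=
    PDLib.lTensor_injective_of_flat A' _ ((Submodule.mkQ J).restrictScalars A) Subtype.val_injective
      (LinearMap.exact_subtype_mkQ J) (Submodule.mkQ_surjective J)
  let emb : Fin r → (B →ₗ[A] Fin r → B) := fun i => LinearMap.single A (fun _ => B) i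
  let X : A' ⊗[A] (Fin r → B) := ∑ i, (emb i).lTensor A' (a i)
  let pr : Fin r → ((Fin r → B) →ₗ[A] B) := fun i => LinearMap.proj i
  let R : A' ⊗[A] (Fin r → B) →ₗ[A] (Fin r → A' ⊗[A] B) := LinearMap.pi fun i => (pr i).lTensor A'
  have hXa : R X = a := by
    funext i
    show (pr i).lTensor A' X = a i
    rw [map_sum, Finset.sum_eq_single i ?_ (fun h => absurd (Finset.mem_univ _) h)]
    · rw [← LinearMap.comp_apply, ← LinearMap.lTensor_comp,
        show (pr i).comp (emb i) = LinearMap.id from LinearMap.ext fun b => Pi.single_eq_same (M := fun _ => B) i b,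
        LinearMap.lTensor_id, LinearMap.id_apply]
    · intro e _ hne
      rw [← LinearMap.comp_apply, ← LinearMap.lTensor_comp,
        show (pr i).comp (emb e) = 0 from LinearMap.ext fun b => Pi.single_eq_of_ne (M := fun _ : Fin r => B) hne.symm b,
        LinearMap.lTensor_zero, LinearMap.zero_apply]
  have hLX : (L.restrictScalars A).lTensor A' X = 0 := by
    rw [← ha, map_sum]
    refine Finset.sum_congr rfl fun i _ => ?_
    generalize a i = w
    induction w using TensorProduct.induction_on with
    | zero => simp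
    | tmul x b =>
      simp [emb, L, Fintype.linearCombination_apply_single, Algebra.TensorProduct.tmul_mul_tmul]
    | add x y hx hy => rw [map_add, map_add, hx, hy, add_mul]
  have h0 : (Lj.restrictScalars A).lTensor A' X = 0 := hinj (by
    rw [map_zero, ← LinearMap.comp_apply, ← LinearMap.lTensor_comp]
    exact hLX)
  obtain ⟨Y, hY⟩ := ((lTensor_exact A' (f := T.restrictScalars A) (g := Lj.restrictScalars A) hTL hLj) X).1 h0
  rw [← hXa, ← hY]
  clear hY h0 hLX hXa
  induction Y using TensorProduct.induction_on with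
  | zero => rw [map_zero, map_zero]; exact zero_mem _
  | tmul x c =>
    have h3 : R ((T.restrictScalars A).lTensor A' (x ⊗ₜ[A] c)) = ∑ p : Fin r × Fin r, (x ⊗ₜ[A] c p : A' ⊗[A] B) •
        (Pi.single p.1 ((1 : A') ⊗ₜ[A] f p.2) - Pi.single p.2 ((1 : A') ⊗ₜ[A] f p.1) : Fin r → A' ⊗[A] B) := by
      funext i
      show x ⊗ₜ[A] (T c i) = _
      rw [Fintype.linearCombination_apply, Finset.sum_apply, Finset.sum_apply, TensorProduct.tmul_sum]
      refine Finset.sum_congr rfl fun p _ => ?_
      simp only [Pi.smul_apply, Pi.sub_apply, smul_eq_mul, Pi.single_apply]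
      split_ifs <;> simp [mul_sub, TensorProduct.tmul_sub, TensorProduct.tmul_neg]
    rw [h3]
    exact sum_mem fun p _ => Submodule.smul_mem _ _ (Submodule.subset_span ⟨p.1, p.2, rfl⟩)
  | add x y hx hy => rw [map_add, map_add]; exact add_mem hx hy

end QReg16BC
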