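import Mathlib
import Groth.Prelude.Def_PP16
import Groth.Agent.PP16Lib.SmoothQR
import Groth.Agent.AdicJacLib.Gr

/-!
# Quasi-regular ideals: conormal module and symmetric algebra criterion
-/

set_option autoImplicit false

universe u

namespace QReg16Lib

open PP16Lib AdicJacLib

variable {R : Type u} [CommRing R] (J : Ideal R)

/-- The symmetric power of a free module mapped by a family of classes in `J/J²`. -/
noncomputable def symOf {r : ℕ} (w : Fin r → J.Cotangent) (ι : Type u) [Fintype ι] :
    SymmetricPower R ι (Fin r →₀ R) →ₗ[R] SymmetricPower R ι J.Cotangent :=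
  symLift ((SymmetricPower.tprod R).compLinearMap fun _ => Finsupp.linearCombination R w) fun σ x => by
    simp only [MultilinearMap.compLinearMap_apply]
    exact SymmetricPower.tprod_equiv σ fun i => Finsupp.linearCombination R w (x i)

theorem canGr_symOf {r : ℕ} (f : Fin r → J) {ι : Type u} [Fintype ι]
    (t : SymmetricPower R ι (Fin r →₀ R)) :
    ∃ hx, canGr J ι (symOf J (fun i => J.toCotangent (f i)) ι t) =
      gcl J (Fintype.card ι)
        (MvPolynomial.eval (fun i => (f i : R)) (polyMap LinearMap.id t)) hx := by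
  have ht : t ∈ Submodule.span R (Set.range fun a : ι → Fin r =>
      SymmetricPower.tprod R fun i => Finsupp.single (a i) (1 : R)) := by
    rw [span_tprod_of_span (fun l : Fin r => Finsupp.single l (1 : R))
      (by rw [← Finsupp.coe_basisSingleOne]; exact Module.Basis.span_eq _)]
    exact Submodule.mem_top
  induction ht using Submodule.span_induction with
  | mem t ht =>
    obtain ⟨a, rfl⟩ := ht
    have h1 : MvPolynomial.eval (fun i => (f i : R))
        (polyMap LinearMap.id (SymmetricPower.tprod R fun i => Finsupp.single (a i) (1 : R))) =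
        ∏ i, (f (a i) : R) := by
      simp [polyMap_tprod, linForm_single]
    have h2 : symOf J (fun i => J.toCotangent (f i)) ι
        (SymmetricPower.tprod R fun i => Finsupp.single (a i) (1 : R)) =
        SymmetricPower.tprod R fun i => J.toCotangent (f (a i)) := by
      rw [symOf, symLift_tprod]
      simp
    refine ⟨h1 ▸ prod_coe_mem J fun i => f (a i), ?_⟩
    rw [h2, canGr_tprod]
    exact (gcl_eq_gcl J (prod_coe_mem J fun i => f (a i)) _).2 (by rw [h1, sub_self]; exact zero_mem _)
  | zero => exact ⟨by simp, by simp [gcl]; rfl⟩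
  | add x y _ _ hx hy =>
    obtain ⟨h1, h1'⟩ := hx
    obtain ⟨h2, h2'⟩ := hy
    refine ⟨by rw [map_add, map_add]; exact add_mem h1 h2, ?_⟩
    rw [map_add, map_add, h1', h2', gcl_add]
    simp only [map_add]
  | smul c x _ hx =>
    obtain ⟨h1, h1'⟩ := hx
    refine ⟨by rw [map_smul, MvPolynomial.smul_eval]; exact Ideal.mul_mem_left _ c h1, ?_⟩
    rw [map_smul, map_smul, h1', smul_gcl]
    simp only [map_smul, MvPolynomial.smul_eval]

theorem finite_cotangent (hfg : J.FG) : Module.Finite (R ⧸ J) J.Cotangent := by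
  have : Module.Finite R J := Module.Finite.iff_fg.2 hfg
  have : Module.Finite R J.Cotangent := Module.Finite.of_surjective J.toCotangent J.toCotangent_surjective
  exact Module.Finite.of_restrictScalars_finite R (R ⧸ J) J.Cotangent

theorem exists_pow_smul_toCotangent {r : ℕ} {f : Fin r → R} {e : R} (h : QRAway J f e) (x : J.Cotangent) :
    ∃ k : ℕ, e ^ k • x ∈
      Submodule.span R (Set.range fun i => J.toCotangent ⟨f i, h.1 i⟩) := by
  obtain ⟨z, rfl⟩ := J.toCotangent_surjective x
  obtain ⟨k, hk⟩ := h.2.1 z z.2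
  obtain ⟨c, hc⟩ := (Ideal.mem_span_range_iff_exists_fun).1 hk
  refine ⟨k, (Submodule.mem_span_range_iff_exists_fun R).2 ⟨c, ?_⟩⟩
  simp only [← map_smul, ← map_sum]
  congr 1
  ext
  simp [hc]

theorem projective_of_qr (hq : PP16.IsLocallyQuasiRegular R J) :
    Module.Projective (R ⧸ J) J.Cotangent := by
  have := finite_cotangent J (fg_of_isLocallyQuasiRegular hq)
  refine projective_of_local_bases fun q hqp => ?_
  have : (q.comap (Ideal.Quotient.mk J)).IsPrime := Ideal.IsPrime.comap _
  obtain ⟨e, he, r, f, hf⟩ := exists_QRAway_of_isLocallyQuasiRegular hq (q.comap (Ideal.Quotient.mk J))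
    fun x hx => by rw [Ideal.mem_comap, Ideal.Quotient.eq_zero_iff_mem.2 hx]; exact zero_mem _
  refine ⟨Ideal.Quotient.mk J e, he, r, fun i => J.toCotangent ⟨f i, hf.1 i⟩, fun x => ?_, fun a ha i => ?_⟩
  · obtain ⟨k, hk⟩ := exists_pow_smul_toCotangent J hf x
    refine ⟨k, ?_⟩
    rw [← map_pow, ← Ideal.Quotient.algebraMap_eq, algebraMap_smul]
    exact Submodule.span_le_restrictScalars R (R ⧸ J) _ hk
  · choose ã hã using fun l => Ideal.Quotient.mk_surjective (a l)
    have hmem : ∑ l, ã l * f l ∈ J ^ 2 := by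
      have h1 : J.toCotangent (∑ l, ã l • (⟨f l, hf.1 l⟩ : J)) = 0 := by
        rw [map_sum, ← ha]
        refine Finset.sum_congr rfl fun l _ => ?_
        rw [map_smul, ← hã l, ← Ideal.Quotient.algebraMap_eq, algebraMap_smul]
      have h2 := (Ideal.toCotangent_eq_zero _ _).1 h1
      simpa using h2
    obtain ⟨k, hk⟩ := hf.coeff_mem_of_relation ã hmem i
    refine ⟨k, ?_⟩
    rw [← hã i, ← map_pow, ← map_mul, Ideal.Quotient.eq_zero_iff_mem]
    exact hk

theorem symGrBijective_of_qr (hq : PP16.IsLocallyQuasiRegular R J) : PP16.SymGrBijective R J := by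
  classical
  refine (symGrBijective_iff J).2 fun ι _ _ => ⟨?_, canGr_surjective J ι⟩
  rw [injective_iff_map_eq_zero]
  intro s hs
  let ann : Ideal R := (Submodule.span R {s}).annihilator
  suffices hann : ann = ⊤ by
    have h1 := Submodule.mem_annihilator.1 (hann ▸ Submodule.mem_top : (1 : R) ∈ ann) s
      (Submodule.mem_span_singleton_self s)
    rwa [one_smul] at h1
  by_contra hne
  obtain ⟨P, hP, hle⟩ := Ideal.exists_le_maximal _ hne
  have hJP : J ≤ P := fun c hc => hle
    ((Submodule.mem_annihilator_span_singleton _ _).2 (smul_sym_eq_zero J hc s))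
  obtain ⟨e, he, r, f, hf⟩ := exists_QRAway_of_isLocallyQuasiRegular hq P hJP
  let w : Fin r → J.Cotangent := fun i => J.toCotangent ⟨f i, hf.1 i⟩
  have hrange : ∃ N : ℕ, e ^ N • s ∈ LinearMap.range (symOf J w ι) := by
    have hmem : s ∈ Submodule.span R (Set.range (SymmetricPower.tprod R (ι := ι) (M := J.Cotangent))) :=
      (SymmetricPower.span_tprod_eq_top (R := R) (ι := ι) (M := J.Cotangent)) ▸ Submodule.mem_top
    clear hle hne hs
    induction hmem using Submodule.span_induction with
    | mem x hx =>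
      obtain ⟨x, rfl⟩ := hx
      choose k hk using fun i => exists_pow_smul_toCotangent J hf (x i)
      choose c hc using fun i => (Finsupp.mem_span_range_iff_exists_finsupp).1 (hk i)
      refine ⟨∑ i, k i, SymmetricPower.tprod R c, ?_⟩
      rw [symOf, symLift_tprod, MultilinearMap.compLinearMap_apply, ← Finset.prod_pow_eq_pow_sum,
        ← MultilinearMap.map_smul_univ]
      congr 1
      ext i
      rw [← hc i]
      exact Finsupp.linearCombination_apply R (c i)
    | zero => exact ⟨0, 0, by simp⟩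
    | add x y _ _ hx hy =>
      obtain ⟨M, hM⟩ := hx
      obtain ⟨N, hN⟩ := hy
      refine ⟨M + N, ?_⟩
      rw [smul_add]
      refine add_mem ?_ ?_
      · rw [Nat.add_comm, pow_add, mul_smul]; exact Submodule.smul_mem _ _ hM
      · rw [pow_add, mul_smul]; exact Submodule.smul_mem _ _ hN
    | smul c x _ hx =>
      obtain ⟨M, hM⟩ := hx
      exact ⟨M, by rw [smul_comm]; exact Submodule.smul_mem _ _ hM⟩
  obtain ⟨N, t, ht⟩ := hrange
  set F := polyMap (ι := ι) (LinearMap.id : (Fin r →₀ R) →ₗ[R] Fin r →₀ R) t with hF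
  obtain ⟨hx, hcan⟩ := canGr_symOf J (fun i => ⟨f i, hf.1 i⟩) t
  rw [ht, map_smul, hs, smul_zero, eq_comm, gcl_eq_zero] at hcan
  choose k hk using fun d => hf.2.2 _ F (isHomogeneous_polyMap _ t) hcan d
  let K := ∑ d ∈ F.support, k d
  obtain ⟨g₀, hg₀⟩ := exists_polyMap_leftInverse (ι := ι)
    (LinearMap.id : (Fin r →₀ R) →ₗ[R] Fin r →₀ R) LinearMap.id fun x => rfl
  have hzero : e ^ K • symOf J w ι t = 0 := by
    rw [show t = g₀ F from (hg₀ t).symm, F.as_sum, map_sum, map_sum, Finset.smul_sum]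
    refine Finset.sum_eq_zero fun d hd => ?_
    rw [show MvPolynomial.monomial d (F.coeff d) = F.coeff d • MvPolynomial.monomial d (1 : R) by
      rw [MvPolynomial.smul_monomial, smul_eq_mul, mul_one], map_smul, map_smul, smul_smul]
    refine smul_sym_eq_zero J ?_ _
    obtain ⟨t', ht'⟩ : ∃ t', K = k d + t' :=
      Nat.exists_eq_add_of_le (Finset.single_le_sum (fun i _ => Nat.zero_le (k i)) hd)
    rw [ht', Nat.add_comm, pow_add, mul_assoc]
    exact Ideal.mul_mem_left _ _ (hk d)
  have : e ^ (K + N) ∈ ann := by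
    rw [Submodule.mem_annihilator_span_singleton, pow_add, mul_smul, ← ht, hzero]
  exact he (hP.isPrime.mem_of_pow_mem _ (hle this))

/-- Near a prime, a minimal generating family of a finitely generated module. -/
theorem exists_minimal_gen {M : Type u} [AddCommGroup M] [Module R M] [Module.Finite R M]
    (P : Ideal R) [hP : P.IsPrime] :
    ∃ (r : ℕ) (w : Fin r → M) (b : R), b ∉ P ∧ (∀ x, b • x ∈ Submodule.span R (Set.range w)) ∧
      ∀ a : Fin r → R, ∑ i, a i • w i = 0 → ∀ i, a i ∈ P := by
  classical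
  have hex : ∃ r, ∃ (w : Fin r → M) (b : R), b ∉ P ∧ ∀ x, b • x ∈ Submodule.span R (Set.range w) := by
    obtain ⟨r, w, hw⟩ := Module.Finite.exists_fin (R := R) (M := M)
    exact ⟨r, w, 1, fun h => hP.ne_top ((Ideal.eq_top_iff_one _).2 h), fun x => by
      rw [hw]; exact Submodule.mem_top⟩
  obtain ⟨r, ⟨w, b, hbP, hgen⟩, hleast⟩ : ∃ r, (∃ (w : Fin r → M) (b : R), b ∉ P ∧
      ∀ x, b • x ∈ Submodule.span R (Set.range w)) ∧ ∀ r' < r, ¬ ∃ (w : Fin r' → M) (b : R),
        b ∉ P ∧ ∀ x, b • x ∈ Submodule.span R (Set.range w) :=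
    ⟨Nat.find hex, Nat.find_spec hex, fun _ h => Nat.find_min hex h⟩
  refine ⟨r, w, b, hbP, hgen, fun a ha i => ?_⟩
  by_contra hai
  obtain ⟨r', hr'⟩ : ∃ r', r = r' + 1 := Nat.exists_eq_succ_of_ne_zero (by have := i.2; omega)
  let e : Fin r' ≃ {j : Fin r // j ≠ i} := (Fintype.equivFinOfCardEq (by
    rw [Fintype.card_subtype_compl]; simp; omega)).symm
  refine hleast r' (by omega) ⟨fun k => w (e k).1, b * a i, fun hm => (hP.mem_or_mem hm).elim hbP hai,
    fun x => ?_⟩
  set O := Submodule.span R (Set.range fun k => w (e k).1)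
  have hO : ∀ j, j ≠ i → w j ∈ O := fun j hj => Submodule.subset_span ⟨e.symm ⟨j, hj⟩, by simp⟩
  have hwi : a i • w i ∈ O := by
    rw [← Finset.add_sum_erase _ _ (Finset.mem_univ i), add_eq_zero_iff_eq_neg] at ha
    rw [ha]
    exact neg_mem (Submodule.sum_mem _ fun j hj => Submodule.smul_mem _ _ (hO j (Finset.ne_of_mem_erase hj)))
  obtain ⟨c, hc⟩ := (Submodule.mem_span_range_iff_exists_fun R).1 (hgen x)
  rw [mul_comm, mul_smul, ← hc, Finset.smul_sum]
  refine Submodule.sum_mem _ fun j _ => ?_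
  by_cases hj : j = i
  · subst hj; rw [smul_comm]; exact Submodule.smul_mem _ _ hwi
  · exact Submodule.smul_mem _ _ (Submodule.smul_mem _ _ (hO j hj))

/-- Near a prime, coordinates of a finitely generated projective module. -/
theorem exists_coords_near {M : Type u} [AddCommGroup M] [Module R M] [Module.Finite R M]
    [Module.Projective R M] (P : Ideal R) [hP : P.IsPrime] :
    ∃ (r : ℕ) (w : Fin r → M) (b D : R) (j : M →ₗ[R] Fin r →₀ R), b ∉ P ∧ D ∉ P ∧
      (∀ x, b • x ∈ Submodule.span R (Set.range w)) ∧ ∀ k, j (w k) = Finsupp.single k D := by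
  classical
  obtain ⟨r, w, b, hbP, hgen, hmin⟩ := exists_minimal_gen (M := M) P
  let u : (Fin r → R) →ₗ[R] M := Fintype.linearCombination R w
  have hu : ∀ x, b • x ∈ LinearMap.range u := fun x => by
    rw [Fintype.range_linearCombination]; exact hgen x
  obtain ⟨v, hv⟩ := Module.projective_lifting_property u.rangeRestrict
    ((b • LinearMap.id).codRestrict (LinearMap.range u) hu) u.surjective_rangeRestrict
  have hv' : ∀ x, u (v x) = b • x := fun x => congrArg Subtype.val (LinearMap.congr_fun hv x)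
  let V : Matrix (Fin r) (Fin r) R := Matrix.of fun i j => v (w j) i
  have hV : ∀ i j, V i j - (if i = j then b else 0) ∈ P := fun i j => by
    refine hmin (fun i => V i j - (if i = j then b else 0)) ?_ i
    simp only [sub_smul, Finset.sum_sub_distrib, ite_smul, zero_smul, Finset.sum_ite_eq', Finset.mem_univ, if_true]
    rw [sub_eq_zero]
    exact (Fintype.linearCombination_apply R w (v (w j))).symm.trans (hv' (w j))
  have hdet : V.det ∉ P := by
    intro hm
    have h1 : V.map (Ideal.Quotient.mk P) = Ideal.Quotient.mk P b • 1 := by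
      ext i j
      have := Ideal.Quotient.eq.2 (hV i j)
      rw [Matrix.map_apply, this, Matrix.smul_apply, Matrix.one_apply, smul_eq_mul,
        apply_ite (Ideal.Quotient.mk P), map_zero]
      split_ifs <;> simp
    have h2 := congrArg Matrix.det h1
    rw [← RingHom.mapMatrix_apply, ← RingHom.map_det, Ideal.Quotient.eq_zero_iff_mem.2 hm, Matrix.det_smul,
      Matrix.det_one, mul_one, ← map_pow, eq_comm, Ideal.Quotient.eq_zero_iff_mem] at h2
    exact hbP (hP.mem_of_pow_mem _ h2)
  refine ⟨r, w, b, V.det, (Finsupp.linearEquivFunOnFinite R R (Fin r)).symm.toLinearMap.comp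
    ((Matrix.mulVecLin V.adjugate).comp v), hbP, hdet, hgen, fun k => ?_⟩
  have h1 : Matrix.mulVec V.adjugate (v (w k)) = Pi.single k V.det := by
    have h2 : v (w k) = Matrix.mulVec V (Pi.single k 1) := by ext i; simp [V]
    rw [h2, Matrix.mulVec_mulVec, Matrix.adjugate_mul, Matrix.smul_mulVec, Matrix.one_mulVec]
    ext i
    by_cases hik : i = k <;> simp [hik]
  show (Finsupp.linearEquivFunOnFinite R R (Fin r)).symm (Matrix.mulVec V.adjugate (v (w k))) = _
  rw [h1]
  ext i
  by_cases hik : i = k <;> simp [hik]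

/-- Nakayama near a prime, by the determinant trick. -/
theorem exists_not_mem_mul_mem_span (hfg : J.FG) (P : Ideal R) [hP : P.IsPrime] (hJP : J ≤ P)
    (F : Ideal R) {b : R} (hb : b ∉ P) (h : ∀ x ∈ J, b * x ∈ F ⊔ J ^ 2) :
    ∃ g, g ∉ P ∧ ∀ x ∈ J, g * x ∈ F := by
  classical
  obtain ⟨G, hG⟩ := hfg
  let gen : ↥G → R := fun i => i
  have hgen : Ideal.span (Set.range gen) = J := by
    rw [show Set.range gen = (G : Set R) from Subtype.range_coe]; exact hG
  have hJ2 : ∀ y ∈ J ^ 2, ∃ m : ↥G → R, (∀ l, m l ∈ J) ∧ y = ∑ l, m l * gen l := fun y hy => by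
    rw [pow_two] at hy
    refine Submodule.mul_induction_on hy (fun x hx z hz => ?_) fun x z hx hz => ?_
    · rw [← hgen] at hz
      obtain ⟨c, rfl⟩ := (Ideal.mem_span_range_iff_exists_fun).1 hz
      exact ⟨fun l => x * c l, fun l => Ideal.mul_mem_right _ _ hx, by
        rw [Finset.mul_sum]; exact Finset.sum_congr rfl fun l _ => by ring⟩
    · obtain ⟨m, hm, rfl⟩ := hx
      obtain ⟨m', hm', rfl⟩ := hz
      exact ⟨m + m', fun l => add_mem (hm l) (hm' l), by
        simp only [Pi.add_apply, add_mul, Finset.sum_add_distrib]⟩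
  have hrow : ∀ i, ∃ m : ↥G → R, (∀ l, m l ∈ J) ∧ b * gen i - ∑ l, m l * gen l ∈ F := fun i => by
    obtain ⟨y, hy, z, hz, hyz⟩ := Submodule.mem_sup.1 (h (gen i) (hgen ▸ Ideal.subset_span ⟨i, rfl⟩))
    obtain ⟨m, hm, rfl⟩ := hJ2 z hz
    exact ⟨m, hm, by rw [← hyz, add_sub_cancel_right]; exact hy⟩
  choose m hm hmF using hrow
  let T : Matrix ↥G ↥G R := b • 1 - Matrix.of m
  have hTF : ∀ i, Matrix.mulVec T gen i ∈ F := fun i => by
    have : Matrix.mulVec T gen i = b * gen i - ∑ l, m i l * gen l := by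
      simp [T, Matrix.mulVec, dotProduct, Matrix.one_apply, sub_mul, Finset.sum_sub_distrib]
    rw [this]; exact hmF i
  have hTgen : ∀ i, T.det * gen i ∈ F := fun i => by
    have h1 : Matrix.mulVec T.adjugate (Matrix.mulVec T gen) = T.det • gen := by
      rw [Matrix.mulVec_mulVec, Matrix.adjugate_mul, Matrix.smul_mulVec, Matrix.one_mulVec]
    have h2 := congrFun h1 i
    rw [Pi.smul_apply, smul_eq_mul] at h2
    rw [← h2]
    exact Ideal.sum_mem _ fun l _ => Ideal.mul_mem_left _ _ (hTF l)
  have hTP : T.det ∉ P := by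
    intro hm'
    have h1 : T.map (Ideal.Quotient.mk P) = Ideal.Quotient.mk P b • 1 := by
      ext i l
      have : Ideal.Quotient.mk P (m i l) = 0 := Ideal.Quotient.eq_zero_iff_mem.2 (hJP (hm i l))
      simp [T, Matrix.one_apply, this, apply_ite (Ideal.Quotient.mk P)]
    have h2 := congrArg Matrix.det h1
    rw [← RingHom.mapMatrix_apply, ← RingHom.map_det, Ideal.Quotient.eq_zero_iff_mem.2 hm', Matrix.det_smul,
      Matrix.det_one, mul_one, ← map_pow, eq_comm, Ideal.Quotient.eq_zero_iff_mem] at h2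
    exact hb (hP.mem_of_pow_mem _ h2)
  refine ⟨T.det, hTP, fun x hx => ?_⟩
  rw [← hgen] at hx
  obtain ⟨c, rfl⟩ := (Ideal.mem_span_range_iff_exists_fun).1 hx
  rw [Finset.mul_sum]
  refine Ideal.sum_mem _ fun i _ => ?_
  rw [mul_left_comm]
  exact Ideal.mul_mem_left _ _ (hTgen i)

theorem exists_fun_sum_single {σ : Type*} {ι : Type u} [Fintype ι] (d : σ →₀ ℕ)
    (hd : d.degree = Fintype.card ι) : ∃ a : ι → σ, ∑ i, Finsupp.single (a i) 1 = d := by
  classical
  have hl : (Finsupp.toMultiset d).toList.length = Fintype.card ι := by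
    rw [Multiset.length_toList, Finsupp.card_toMultiset]
    exact hd
  let l := (Finsupp.toMultiset d).toList
  let c : ι ≃ Fin l.length := (Fintype.equivFin ι).trans (finCongr hl.symm)
  refine ⟨fun i => l.get (c i), ?_⟩
  rw [Equiv.sum_comp c fun k => Finsupp.single (l.get k) (1 : ℕ)]
  apply Function.LeftInverse.injective (g := Multiset.toFinsupp) Finsupp.toMultiset_toFinsupp
  rw [map_sum]
  simp only [Finsupp.toMultiset_single, one_nsmul, Finset.sum_multiset_singleton]
  have h1 : ∀ m : List σ, ∑ x : Fin m.length, ({m.get x} : Multiset σ) = (m : Multiset σ) := by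
    intro m
    induction m with
    | nil => simp
    | cons a m ih =>
      rw [← Multiset.cons_coe, ← ih]
      simp only [List.length_cons, Fin.sum_univ_succ, Multiset.singleton_add, List.get_cons_zero,
        List.get_cons_succ]
      rfl
  rw [h1]
  exact Multiset.coe_toList _

theorem qr_of_fg_projective_symGr (hfg : J.FG) (hproj : Module.Projective (R ⧸ J) J.Cotangent)
    (hsym : PP16.SymGrBijective R J) : PP16.IsLocallyQuasiRegular R J := by
  classical
  refine isLocallyQuasiRegular_of_QRAway fun P hP hJP => ?_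
  have := finite_cotangent J hfg
  let π := Ideal.Quotient.mk J
  let q : Ideal (R ⧸ J) := P.map π
  have hq : q.IsPrime := Ideal.map_isPrime_of_surjective Ideal.Quotient.mk_surjective
    (by rwa [Ideal.mk_ker])
  have hPq : ∀ x, π x ∈ q ↔ x ∈ P := fun x => by
    rw [← Ideal.mem_comap]
    simp only [q, π, Ideal.comap_map_of_surjective' _ Ideal.Quotient.mk_surjective, Ideal.mk_ker,
      sup_eq_left.2 hJP]
  obtain ⟨r, w, b', D', j, hb', hD', hgen, hj⟩ := exists_coords_near (M := J.Cotangent) q
  obtain ⟨b, rfl⟩ := Ideal.Quotient.mk_surjective b'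
  obtain ⟨D, rfl⟩ := Ideal.Quotient.mk_surjective D'
  choose f hf using fun k => J.toCotangent_surjective (w k)
  set Fs : Ideal R := Ideal.span (Set.range fun k => (f k : R))
  have hsq : ∀ x ∈ J, b * x ∈ Fs ⊔ J ^ 2 := fun x hx => by
    obtain ⟨c, hc⟩ := (Submodule.mem_span_range_iff_exists_fun (R ⧸ J)).1
      (hgen (J.toCotangent ⟨x, hx⟩))
    choose c' hc' using fun l => Ideal.Quotient.mk_surjective (c l)
    have h1 : J.toCotangent (∑ k, c' k • f k) = J.toCotangent (b • ⟨x, hx⟩) := by
      rw [map_sum, map_smul, ← algebraMap_smul (R ⧸ J) b, Ideal.Quotient.algebraMap_eq, ← hc]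
      refine Finset.sum_congr rfl fun k _ => ?_
      rw [map_smul, ← algebraMap_smul (R ⧸ J) (c' k), Ideal.Quotient.algebraMap_eq, hc', hf]
    have h2 := (Ideal.toCotangent_eq _).1 h1.symm
    simp only [Submodule.coe_sum, Submodule.coe_smul, smul_eq_mul] at h2
    rw [show b * x = ∑ k, c' k * (f k : R) + (b * x - ∑ k, c' k * (f k : R)) by ring]
    exact Submodule.add_mem_sup (Ideal.sum_mem _ fun k _ => Ideal.mul_mem_left _ _ (Ideal.subset_span ⟨k, rfl⟩)) h2
  obtain ⟨g, hgP, hg⟩ := exists_not_mem_mul_mem_span J hfg P hJP Fs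
    (fun h => hb' ((hPq b).2 h)) hsq
  refine ⟨g * D, fun hm => (hP.mem_or_mem hm).elim hgP fun h => hD' ((hPq D).2 h), r,
    fun k => (f k : R), fun k => (f k).2, fun x hx => ⟨1, ?_⟩, fun n F hF hFI d => ⟨n, ?_⟩⟩
  · rw [pow_one, mul_right_comm]
    exact Ideal.mul_mem_right _ _ (hg x hx)
  by_cases hd : d ∈ F.support
  swap
  · rw [MvPolynomial.notMem_support_iff.1 hd, mul_zero]; exact zero_mem _
  obtain rfl | hn := Nat.eq_zero_or_pos n
  · rw [(MvPolynomial.totalDegree_eq_zero_iff_eq_C (p := F)).1 (Nat.le_zero.1 hF.totalDegree_le)] at hFI hd ⊢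
    rw [MvPolynomial.eval_C, pow_one] at hFI
    rw [pow_zero, one_mul, MvPolynomial.coeff_C]
    split_ifs
    · exact hFI
    · exact zero_mem _
  let ι := ULift.{u} (Fin n)
  have : Nonempty ι := ⟨⟨⟨0, hn⟩⟩⟩
  have hcard : Fintype.card ι = n := by simp [ι]
  let j' : J.Cotangent →ₗ[R ⧸ J] ULift.{u} (Fin r) →₀ R ⧸ J :=
    (Finsupp.domLCongr Equiv.ulift.symm).toLinearMap.comp j
  have hj' : ∀ k, j' (w k) = Finsupp.single (ULift.up k) (π D) := fun k => by
    simp [j', hj, π]
  -- a symmetric tensor for each monomial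
  have hmon : ∀ e ∈ F.support, ∃ t : SymmetricPower R ι J.Cotangent, ∃ hx,
      canGr J ι t = gcl J (Fintype.card ι) (MvPolynomial.eval (fun k => (f k : R)) (MvPolynomial.monomial e 1)) hx ∧
      polyB J j' ι t = MvPolynomial.monomial (Finsupp.mapDomain ULift.up e) (π D ^ n) := fun e he => by
    obtain ⟨a, ha⟩ := exists_fun_sum_single (ι := ι) e
      (by rw [hcard]; exact (hF.degree_eq_sum_deg_support he).symm)
    have hXe : (MvPolynomial.monomial e (1 : R)) = ∏ i, MvPolynomial.X (a i) := by
      rw [← ha, MvPolynomial.monomial_sum_one]; rfl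
    have hev : MvPolynomial.eval (fun k => (f k : R)) (MvPolynomial.monomial e 1) = ∏ i, (f (a i) : R) := by
      rw [hXe]; simp
    refine ⟨SymmetricPower.tprod R fun i => J.toCotangent (f (a i)), hev ▸ prod_coe_mem J fun i => f (a i),
      (canGr_tprod J _).trans ((gcl_eq_gcl J (prod_coe_mem J fun i => f (a i)) _).2
        (by rw [hev, sub_self]; exact zero_mem _)), ?_⟩
    rw [polyB_tprod]
    simp only [hf, hj', linForm, Finsupp.linearCombination_single, MvPolynomial.smul_eq_C_mul]
    rw [Finset.prod_mul_distrib, ← map_prod, Finset.prod_const, Finset.card_univ, hcard, ← ha,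
      Finsupp.mapDomain_finsetSum, ← mul_one (π D ^ n), ← MvPolynomial.C_mul_monomial,
      MvPolynomial.monomial_sum_one, mul_one]
    simp only [Finsupp.mapDomain_single]
    rfl
  choose t hx ht ht' using hmon
  let s := ∑ e ∈ F.support.attach, F.coeff e.1 • t e.1 e.2
  have hs : canGr J ι s = 0 := by
    suffices h : ∀ S : Finset {e // e ∈ F.support}, ∃ hy, canGr J ι (∑ e ∈ S, F.coeff e.1 • t e.1 e.2) =
        gcl J (Fintype.card ι) (∑ e ∈ S, F.coeff e.1 *
          MvPolynomial.eval (fun k => (f k : R)) (MvPolynomial.monomial e.1 1)) hy by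
      obtain ⟨hy, h'⟩ := h F.support.attach
      rw [h', gcl_eq_zero, hcard]
      convert hFI using 1
      conv_rhs => rw [F.as_sum, map_sum, ← Finset.sum_attach]
      refine Finset.sum_congr rfl fun e _ => ?_
      rw [← MvPolynomial.smul_eval, MvPolynomial.smul_monomial, smul_eq_mul, mul_one]
    intro S
    induction S using Finset.induction_on with
    | empty => exact ⟨by simp, by simp [gcl]; rfl⟩
    | insert e S he ih =>
      obtain ⟨hy, hy'⟩ := ih
      refine ⟨by rw [Finset.sum_insert he]; exact add_mem (Ideal.mul_mem_left _ _ (hx e.1 e.2)) hy, ?_⟩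
      rw [Finset.sum_insert he, map_add, map_smul, ht e.1 e.2, hy', smul_gcl, gcl_add]
      simp only [Finset.sum_insert he]
  have hs0 : s = 0 := ((symGrBijective_iff J).1 hsym ι).1 (hs.trans (map_zero _).symm)
  have h0 := congrArg (fun p => MvPolynomial.coeff (Finsupp.mapDomain ULift.up d) p) (congrArg (polyB J j' ι) hs0)
  simp only [map_zero, MvPolynomial.coeff_zero, s, map_sum, map_smul, MvPolynomial.coeff_sum] at h0
  rw [Finset.sum_eq_single ⟨d, hd⟩ (fun e _ hne => by
      rw [ht' e.1 e.2, MvPolynomial.coeff_smul, MvPolynomial.coeff_monomial,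
        if_neg fun h => hne (Subtype.ext (Finsupp.mapDomain_injective ULift.up_injective h)), smul_zero])
    (fun h => absurd (Finset.mem_attach _ _) h)] at h0
  rw [ht' d hd, MvPolynomial.coeff_smul, MvPolynomial.coeff_monomial, if_pos rfl, Algebra.smul_def,
    Ideal.Quotient.algebraMap_eq, ← map_pow, ← map_mul, Ideal.Quotient.eq_zero_iff_mem] at h0
  rw [mul_pow, mul_assoc, mul_comm (D ^ n)]
  exact Ideal.mul_mem_left _ _ h0

theorem isLocallyQuasiRegular_iff :
    PP16.IsLocallyQuasiRegular R J ↔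
      J.FG ∧ Module.Projective (R ⧸ J) J.Cotangent ∧ PP16.SymGrBijective R J :=
  ⟨fun h => ⟨fg_of_isLocallyQuasiRegular h, projective_of_qr J h, symGrBijective_of_qr J h⟩,
    fun h => qr_of_fg_projective_symGr J h.1 h.2.1 h.2.2⟩

end QReg16Lib
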